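import Groth.Agent.FrobSch.K865.FrobIter
import Groth.Agent.Variety.K430.Frob
import Groth.Agent.Variety.K425.GenEtale
import Groth.Agent.Curves.K322.FrobTwist
import Groth.Agent.S13835
import Groth.Agent.S9821
import Groth.Agent.HTop.K345.AwnIff
import Groth.Agent.HTop.K344.AwnSchemeA
import Mathlib.FieldTheory.PurelyInseparable.Basic

/-!
# Universal homeomorphisms onto normal varieties in characteristic `p` and iterated Frobenius

If `u : X ⟶ Y` is an integral universal homeomorphism of integral schemes of characteristic `p`, `Y` normal,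
and `K(X) ^ (p ^ n) ⊆ K(Y)`, then the `n`-th iterated Frobenius of `X` factors through `u`.
-/

set_option autoImplicit false

universe u

open CategoryTheory CategoryTheory.Limits AlgebraicGeometry FrobSch

namespace K363.UHFactor

/-- In a purely inseparable extension of degree `q ^ n` every `q ^ n`-th power lies in the ground field. -/
theorem pow_mem_of_finrank {K L : Type*} [Field K] [Field L] [Algebra K L] [FiniteDimensional K L]
    [IsPurelyInseparable K L] (p : ℕ) [hp : Fact p.Prime] [ExpChar K p] {n : ℕ}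
    (hn : Module.finrank K L = p ^ n) (x : L) : ∃ c : K, algebraMap K L c = x ^ p ^ n := by
  obtain ⟨m, y, hm⟩ := IsPurelyInseparable.minpoly_eq_X_pow_sub_C K p x
  have h1 : (minpoly K x).natDegree ∣ Module.finrank K L :=
    minpoly.degree_dvd (Algebra.IsIntegral.isIntegral x)
  rw [hm, Polynomial.natDegree_X_pow_sub_C, hn] at h1
  have h2 : m ≤ n := (Nat.pow_dvd_pow_iff_le_right hp.out.one_lt).1 h1
  have h3 : x ^ p ^ m = algebraMap K L y := by
    have h := minpoly.aeval K x
    rw [hm] at h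
    simpa [sub_eq_zero] using h
  refine ⟨y ^ p ^ (n - m), ?_⟩
  rw [map_pow, ← h3, ← pow_mul, ← pow_add, Nat.add_sub_cancel' h2]

/-- Residue characteristic. -/
theorem expChar_functionField (Y : Scheme.{u}) [IsIntegral Y] (p : ℕ) [hp : Fact p.Prime] [IsCharP Y p] :
    ExpChar Y.functionField p := by
  have h : (p : Y.functionField) = 0 := by
    have h := congrArg (Y.presheaf.germ ⊤ (genericPoint Y) trivial) (IsCharP.natCast_eq_zero (X := Y) (p := p))
    rw [map_natCast, map_zero] at h
    exact h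
  have : CharP Y.functionField p := (CharP.charP_iff_prime_eq_zero hp.out).2 h
  exact ExpChar.prime hp.out

section

variable {X Y : Scheme.{u}} [IsIntegral X] [IsIntegral Y] (f : X ⟶ Y)

/-- A universally injective morphism of integral schemes mapping the generic point to the generic point induces
a purely inseparable extension of function fields. -/
theorem isPurelyInseparable_ff [UniversallyInjective f] (e : f (genericPoint X) = genericPoint Y) :
    @IsPurelyInseparable Y.functionField X.functionField _ _ (K425.GenEtale.ffMap f e).toAlgebra := by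
  have h0 : Function.Injective f ∧ ∀ x, (f.residueFieldMap x).hom.IsPurelyInseparable :=
    ((tfae_universallyInjective f).out 0 2).1 ‹_›
  have h1 : (f.residueFieldMap (genericPoint X)).hom.IsPurelyInseparable := h0.2 _
  obtain ⟨q, hq'⟩ := ExpChar.exists Y.functionField
  have hq : ExpChar (Y.residueField (f (genericPoint X))) q := by
    have : Function.Injective ((Y.presheaf.stalkSpecializes (specializes_of_eq e) ≫
      Y.residue (f (genericPoint X))).hom) := RingHom.injective _
    exact expChar_of_injective_ringHom this q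
  let _ : Algebra Y.functionField X.functionField := (K425.GenEtale.ffMap f e).toAlgebra
  rw [isPurelyInseparable_iff_pow_mem Y.functionField q]
  intro b
  obtain ⟨n, c, hc⟩ : ∃ (n : ℕ) (c : Y.residueField (f (genericPoint X))),
      (f.residueFieldMap (genericPoint X)).hom c = (X.residue (genericPoint X) b) ^ q ^ n := by
    let _ : Algebra (Y.residueField (f (genericPoint X))) (X.residueField (genericPoint X)) :=
      (f.residueFieldMap (genericPoint X)).hom.toAlgebra
    have h2 : IsPurelyInseparable (Y.residueField (f (genericPoint X))) (X.residueField (genericPoint X)) := h1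
    obtain ⟨n, c, hc⟩ := h2.pow_mem _ q (X.residue (genericPoint X) b)
    exact ⟨n, c, hc⟩
  obtain ⟨c', rfl⟩ := IsLocalRing.residue_surjective (R := Y.presheaf.stalk (f (genericPoint X))) c
  have h3 : Function.Injective (X.residue (genericPoint X)) := (X.residue (genericPoint X)).hom.injective
  have h4 : f.stalkMap (genericPoint X) c' = b ^ (q ^ n) := by
    apply h3
    rw [map_pow]
    refine Eq.trans ?_ hc
    exact congr($(Scheme.residue_residueFieldMap f (genericPoint X)) c')
  obtain ⟨c'', hc''⟩ : ∃ c'' : Y.functionField,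
      Y.presheaf.stalkSpecializes (specializes_of_eq e) c'' = c' := by
    obtain ⟨U, hxU, s, rfl⟩ := Y.presheaf.exists_germ_eq c'
    have hxU' : genericPoint Y ∈ U := by rw [← e]; exact hxU
    refine ⟨Y.presheaf.germ U _ hxU' s, ?_⟩
    exact congr($(Y.presheaf.germ_stalkSpecializes hxU' (specializes_of_eq e)) s)
  refine ⟨n, c'', ?_⟩
  change (Y.presheaf.stalkSpecializes (specializes_of_eq e) ≫ f.stalkMap (genericPoint X)) c'' = _
  rw [CommRingCat.comp_apply, hc'', h4]

/-- For an integral morphism onto a normal scheme: a section whose image in the function field comes from the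
base comes from a section over the base. -/
theorem exists_app_eq [IsIntegralHom f] (hY : Pi1.IsNormalScheme Y) (e : f (genericPoint X) = genericPoint Y)
    {V : Y.Opens} (hV : IsAffineOpen V) (hηV : genericPoint Y ∈ V) (hηU : genericPoint X ∈ f ⁻¹ᵁ V)
    (b : Γ(X, f ⁻¹ᵁ V)) (c : Y.functionField)
    (hc : K425.GenEtale.ffMap f e c = X.presheaf.germ (f ⁻¹ᵁ V) _ hηU b) :
    ∃ a : Γ(Y, V), f.app V a = b := by
  have : Nonempty V := ⟨⟨_, hηV⟩⟩
  have : Nonempty (f ⁻¹ᵁ V) := ⟨⟨_, hηU⟩⟩
  have hic : IsIntegrallyClosed Γ(Y, V) := (Groth.Agent.S9821.result Y).1 hY V hV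
  have hfr : IsFractionRing Γ(Y, V) Y.functionField := functionField_isFractionRing_of_isAffineOpen Y V hV
  have hg : ∀ a : Γ(Y, V), K425.GenEtale.ffMap f e (Y.presheaf.germ V _ hηV a) =
      X.presheaf.germ (f ⁻¹ᵁ V) _ hηU (f.app V a) := by
    intro a
    rw [K425.GenEtale.ffMap_germ f e le_rfl hηV hηU, Scheme.Hom.app_eq_appLE]
  obtain ⟨P, hP, hP'⟩ := IsIntegralHom.isIntegral_app f V hV b
  have h1 : _root_.IsIntegral Γ(Y, V) c := by
    refine ⟨P, hP, ?_⟩
    apply (K425.GenEtale.ffMap f e).injective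
    rw [map_zero, Polynomial.hom_eval₂]
    have h2 := congr((X.presheaf.germ (f ⁻¹ᵁ V) _ hηU).hom $hP')
    rw [map_zero] at h2
    rw [← h2, Polynomial.hom_eval₂]
    congr 1
    ext a
    exact hg a
  obtain ⟨a, ha⟩ := IsIntegrallyClosed.isIntegral_iff.1 h1
  refine ⟨a, ?_⟩
  apply Scheme.germToFunctionField_injective X (f ⁻¹ᵁ V)
  change X.presheaf.germ (f ⁻¹ᵁ V) _ hηU _ = X.presheaf.germ (f ⁻¹ᵁ V) _ hηU _
  rw [← hg, ← hc]
  congr 1

theorem app_injective (e : f (genericPoint X) = genericPoint Y)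
    {V : Y.Opens} (hηV : genericPoint Y ∈ V) (hηU : genericPoint X ∈ f ⁻¹ᵁ V) :
    Function.Injective (f.app V) := by
  have : Nonempty V := ⟨⟨_, hηV⟩⟩
  intro a b hab
  apply Scheme.germToFunctionField_injective Y V
  apply (K425.GenEtale.ffMap f e).injective
  change K425.GenEtale.ffMap f e (Y.presheaf.germ V _ hηV a) = K425.GenEtale.ffMap f e (Y.presheaf.germ V _ hηV b)
  rw [K425.GenEtale.ffMap_germ f e le_rfl hηV hηU, K425.GenEtale.ffMap_germ f e le_rfl hηV hηU,
    ← Scheme.Hom.app_eq_appLE, hab]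

end

/-- A ring homomorphism through which the `p ^ n`-th power map factors. -/
theorem exists_ringHom {A B : Type u} [CommRing A] [CommRing B] (p : ℕ) [Fact p.Prime] (hp : (p : B) = 0)
    (φ : A →+* B) (hφ : Function.Injective φ) (n : ℕ) (h : ∀ b : B, ∃ a : A, φ a = b ^ p ^ n) :
    ∃ ψ : B →+* A, ∀ b, φ (ψ b) = b ^ p ^ n := by
  have hadd : ∀ (n : ℕ) (x y : B), (x + y) ^ p ^ n = x ^ p ^ n + y ^ p ^ n := by
    intro n
    induction n with
    | zero => intro x y; simp
    | succ n ih =>
      intro x y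
      rw [pow_succ, pow_mul, ih, pow_mul, pow_mul]
      exact (powHom p B hp).map_add _ _
  choose ψ hψ using h
  refine ⟨{ toFun := ψ, map_one' := hφ ?_, map_mul' := fun x y => hφ ?_, map_zero' := hφ ?_,
            map_add' := fun x y => hφ ?_ }, hψ⟩
  · rw [hψ, map_one, one_pow]
  · rw [hψ, map_mul, hψ, hψ, mul_pow]
  · rw [hψ, map_zero, zero_pow (pow_pos (Fact.out : p.Prime).pos n).ne']
  · rw [hψ, map_add, hψ, hψ, hadd]

/-- The affine-local factorization of the iterated Frobenius. -/
theorem exists_local {X Y : Scheme.{u}} (f : X ⟶ Y) (p : ℕ) [Fact p.Prime] [IsCharP X p] (n : ℕ)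
    {V : Y.Opens} (hV : IsAffineOpen V) (hU : IsAffineOpen (f ⁻¹ᵁ V))
    (ψ : Γ(X, f ⁻¹ᵁ V) →+* Γ(Y, V)) (hψ : ∀ b, f.app V (ψ b) = b ^ p ^ n) :
    ∃ g : (V : Scheme.{u}) ⟶ X, (f ⁻¹ᵁ V).ι ≫ frobIter X p n = (f ∣_ V) ≫ g := by
  refine ⟨hV.isoSpec.hom ≫ Spec.map (CommRingCat.ofHom ψ) ≫ hU.fromSpec, ?_⟩
  have h1 : (f ∣_ V) ≫ hV.isoSpec.hom = hU.isoSpec.hom ≫ Spec.map (f.app V) := by
    rw [← cancel_mono hV.fromSpec, Category.assoc, Category.assoc]
    have h2 : Spec.map (f.app V) ≫ hV.fromSpec = hU.fromSpec ≫ f := by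
      rw [Scheme.Hom.app_eq_appLE]
      exact IsAffineOpen.SpecMap_appLE_fromSpec f hV hU le_rfl
    rw [h2, IsAffineOpen.isoSpec_hom_fromSpec]
    rw [← Category.assoc, IsAffineOpen.isoSpec_hom_fromSpec, morphismRestrict_ι]
  rw [← Category.assoc, h1, Category.assoc, ← Spec.map_comp_assoc, ← IsAffineOpen.isoSpec_hom_fromSpec hU,
    Category.assoc]
  congr 1
  have h3 : (f ⁻¹ᵁ V : X.Opens) ≤ (frobIter X p n) ⁻¹ᵁ (f ⁻¹ᵁ V) := by
    rw [K865.FrobIter.frobIter_preimage]
  rw [← IsAffineOpen.SpecMap_appLE_fromSpec (frobIter X p n) hU hU h3]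
  congr 2
  ext b
  change _ = f.app V (ψ b)
  rw [hψ, Scheme.Hom.appLE, CommRingCat.comp_apply, K865.FrobIter.frobIter_app]
  change (X.presheaf.map _ ≫ X.presheaf.map _) _ = _
  rw [← Functor.map_comp]
  have h4 : ((eqToHom (K865.FrobIter.frobIter_preimage X n (f ⁻¹ᵁ V))).op ≫ (homOfLE h3).op) =
    𝟙 (Opposite.op (f ⁻¹ᵁ V)) := Subsingleton.elim _ _
  rw [h4, X.presheaf.map_id]
  rfl

/-- **Factorization of the iterated Frobenius.** -/
theorem exists_factor {X Y : Scheme.{u}} [IsIntegral X] [IsIntegral Y] (f : X ⟶ Y) (p : ℕ) [Fact p.Prime]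
    [IsCharP X p] [X.IsSeparated] [Y.IsSeparated] (hf : FlatMor.IsUnivHomeo f) (hY : Pi1.IsNormalScheme Y)
    (e : f (genericPoint X) = genericPoint Y) (n : ℕ)
    (hn : ∀ b : X.functionField, ∃ c : Y.functionField, K425.GenEtale.ffMap f e c = b ^ p ^ n) :
    ∃ w : Y ⟶ X, f ≫ w = frobIter X p n := by
  have hint : IsIntegralHom f := Groth.Agent.FlatA.UnivHomeo.isIntegralHom_of_isUnivHomeo hf
  refine Groth.Agent.S13835.result f hf (frobIter X p n) (fun V : Y.affineOpens => V) (iSup_affineOpens_eq_top Y) ?_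
  intro V
  have hU : IsAffineOpen (f ⁻¹ᵁ (V : Y.Opens)) := V.2.preimage f
  obtain ⟨ψ, hψ⟩ : ∃ ψ : Γ(X, f ⁻¹ᵁ (V : Y.Opens)) →+* Γ(Y, V), ∀ b, f.app V (ψ b) = b ^ p ^ n := by
    by_cases hηV : genericPoint Y ∈ (V : Y.Opens)
    · have hηU : genericPoint X ∈ f ⁻¹ᵁ (V : Y.Opens) := by
        change f (genericPoint X) ∈ (V : Y.Opens)
        rw [e]
        exact hηV
      refine exists_ringHom p (natCast_eq_zero_app X p _) (f.app V).hom (app_injective f e hηV hηU) n ?_
      intro b
      obtain ⟨c, hc⟩ := hn (X.presheaf.germ (f ⁻¹ᵁ (V : Y.Opens)) _ hηU b)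
      refine exists_app_eq f hY e V.2 hηV hηU (b ^ p ^ n) c ?_
      rw [hc, map_pow]
    · have hbot : (V : Y.Opens) = ⊥ := by
        by_contra hne
        apply hηV
        have h2 : ((V : Y.Opens) : Set Y).Nonempty := by
          rw [Set.nonempty_iff_ne_empty]
          intro h2
          exact hne (TopologicalSpace.Opens.ext h2)
        exact ((genericPoint_spec Y).mem_open_set_iff (V : Y.Opens).2).2 (by simpa using h2)
      have hs1 : Subsingleton Γ(Y, V) := by rw [hbot]; infer_instance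
      have hs2 : Subsingleton Γ(X, f ⁻¹ᵁ (V : Y.Opens)) := by rw [hbot]; exact (inferInstance : Subsingleton Γ(X, ⊥))
      exact ⟨⟨⟨⟨fun _ => 0, Subsingleton.elim _ _⟩, fun _ _ => Subsingleton.elim _ _⟩, Subsingleton.elim _ _,
        fun _ _ => Subsingleton.elim _ _⟩, fun _ => Subsingleton.elim _ _⟩
  exact exists_local f p n V.2 hU ψ hψ

theorem iterate_eq (X : Scheme.{u}) (p : ℕ) [Fact p.Prime] [IsCharP X p] (n : ℕ) :
    (fun g : X ⟶ X => g ≫ frob X p)^[n] (𝟙 X) = frobIter X p n := by
  induction n with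
  | zero => rfl
  | succ n ih => rw [Function.iterate_succ', Function.comp_apply, ih, K865.FrobIter.frobIter_succ']

theorem frobIter_isUnivHomeo (X : Scheme.{u}) (p : ℕ) [Fact p.Prime] [IsCharP X p] (n : ℕ) :
    FlatMor.IsUnivHomeo (frobIter X p n) := by
  induction n with
  | zero => exact K345.AwnIff.isUnivHomeo_id X
  | succ n ih =>
    rw [frobIter_succ]
    exact K344.AwnScheme.isUnivHomeo_comp (K430.Frob.frob_isUnivHomeo X p) ih

end K363.UHFactor
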